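import Cfsg.Agent.H618.J4.Cols5Abs
import Cfsg.Agent.H265.J4LP.Five

/-!
# The columns of 5 of `J₄` (helper618)
-/

set_option autoImplicit false

open Cfsg

namespace Cfsg.Agent.H618.J4

open Cfsg.Agent.H34.TI Cfsg.Agent.H265.J4LP

universe u

/-- **COL5** -/
theorem cols5 {G : Type u} [Group G] [Finite G] [Fintype (IrrCharacter G)] {D : Data5 G} (h : Five D)
    {th : Fin 11 → IrrCharacter D.H} (hI : IrrH D.H th) (hA : ActH D.H D.n th)
    (hG : Nat.card G = 86775571046077562880) : ∃ t, Cols5 D.y D.H th t :=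
  cols5Abs ⟨h.ord_y, h.card_H, h.comm, h.form, h.n_y⟩ (by rw [hG]; norm_num) hI hA

end Cfsg.Agent.H618.J4
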