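import Cfsg.Agent.H34.TI.J4Cols
import Cfsg.Agent.SmallSimple.TheoremC
import Cfsg.Agent.CharactersDeep.ModCongr

/-!
# The columns of 5 of `J₄` (helper618): abstract form
-/

set_option autoImplicit false
set_option linter.unusedSectionVars false

open Cfsg
open scoped ComplexConjugate

namespace Cfsg.Agent.H618.J4

open Subgroup
open Cfsg.Agent.Characters.Core
open Cfsg.Agent.SmallSimple.PrimeDual Cfsg.Agent.SmallSimple.ThetaSetup
open Cfsg.Agent.SmallSimple.ThetaOrtho Cfsg.Agent.SmallSimple.ThetaGroup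
open Cfsg.Agent.SmallSimple.TheoremC
open Cfsg.Agent.H34.TI

universe u

/-- what is used of `Five` -/
structure Loc {G : Type u} [Group G] (y n : G) (H : Subgroup G) : Prop where
  ord_y : orderOf y = 5
  card_H : Nat.card H = 1344
  comm : ∀ h ∈ H, y * h = h * y
  form : ∀ g, g * y = y * g → ∃ (i : ℕ), ∃ h ∈ H, g = y ^ i * h
  n_y : n * y * n⁻¹ = y ^ 2

/-- the permutation of the characters of `H` -/
def pm : Fin 11 → Fin 11 := ![0, 1, 2, 3, 4, 5, 6, 8, 7, 10, 9]

theorem pm_pm : ∀ i, pm (pm i) = i := by decide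

/-- the first element of a group -/
def rp : Fin 9 → Fin 11 := ![0, 1, 2, 3, 4, 5, 6, 7, 9]

variable {G : Type u} [Group G] {y n : G} {H : Subgroup G}

instance : Fact (Nat.Prime 5) := ⟨by norm_num⟩

section grp

variable [Finite G]

theorem exists_sylow (h : Loc y n H) (hG : ¬ 25 ∣ Nat.card G) : ∃ P : Sylow 5 G, (P : Subgroup G) = zpowers y := by
  have h1 : IsPGroup 5 (zpowers y) := IsPGroup.of_card (n := 1) (by rw [Nat.card_zpowers, h.ord_y, pow_one])
  obtain ⟨Q, hQ⟩ := h1.exists_le_sylow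
  refine ⟨Q, ?_⟩
  obtain ⟨k, hk⟩ := (IsPGroup.iff_card.1 Q.2)
  have hk1 : k ≤ 1 := by
    by_contra hk2
    apply hG
    have h2 : 5 ^ 2 ∣ 5 ^ k := pow_dvd_pow 5 (by omega)
    rw [← hk] at h2
    exact h2.trans (Subgroup.card_subgroup_dvd_card _)
  refine (Subgroup.eq_of_le_of_card_ge hQ ?_).symm
  rw [hk, Nat.card_zpowers, h.ord_y]
  calc 5 ^ k ≤ 5 ^ 1 := Nat.pow_le_pow_right (by norm_num) hk1
    _ = 5 := by norm_num

variable {P : Sylow 5 G}

theorem card_P (h : Loc y n H) (hP : (P : Subgroup G) = zpowers y) : Nat.card P = 5 := by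
  have h1 : Nat.card (P : Subgroup G) = 5 := by rw [hP, Nat.card_zpowers, h.ord_y]
  exact h1

theorem mem_centP (hP : (P : Subgroup G) = zpowers y) {c : G} :
    c ∈ centralizer ((P : Subgroup G) : Set G) ↔ y * c = c * y := by
  rw [hP, mem_centralizer_iff]
  constructor
  · intro h
    exact h y (mem_zpowers y)
  · rintro h z ⟨i, rfl⟩
    exact (Commute.zpow_left (show Commute y c from h) i).eq

theorem isComp (h : Loc y n H) (hP : (P : Subgroup G) = zpowers y) : IsComp 5 (P : Subgroup G) H := by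
  intro z
  rw [mem_centP hP]
  constructor
  · intro hz
    refine ⟨h.comm z hz, fun h5 => ?_⟩
    have h1 := orderOf_dvd_natCard (⟨z, hz⟩ : H)
    rw [← Subgroup.orderOf_coe, h.card_H] at h1
    have h2 := h5.trans h1
    revert h2
    norm_num
  · rintro ⟨hz, h5⟩
    obtain ⟨i, w, hw, rfl⟩ := h.form z hz.symm
    have hc : Commute (y ^ i) w := Commute.pow_left (h.comm w hw) i
    have hw1 : w ^ 1344 = 1 := by
      have h1 : orderOf w ∣ 1344 := by
        have h1 := orderOf_dvd_natCard (⟨w, hw⟩ : H)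
        rwa [← Subgroup.orderOf_coe, h.card_H] at h1
      exact orderOf_dvd_iff_pow_eq_one.1 h1
    have h2 : (y ^ i * w) ^ 1344 = (y ^ i) ^ 1344 := by rw [hc.mul_pow, hw1, mul_one]
    have h3 : ((y ^ i * w) ^ 1344) ^ 5 = 1 := by
      rw [h2, ← pow_mul, ← pow_mul, mul_comm _ 5, ← mul_assoc, mul_comm _ 5, mul_assoc, pow_mul, ← h.ord_y,
        pow_orderOf_eq_one, one_pow]
    have h4 : (y ^ i * w) ^ 1344 = 1 := by
      have h5' : orderOf ((y ^ i * w) ^ 1344) ∣ 5 := orderOf_dvd_iff_pow_eq_one.2 h3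
      rcases (Nat.dvd_prime (by norm_num)).1 h5' with h6 | h6
      · exact orderOf_eq_one_iff.1 h6
      · exfalso
        apply h5
        rw [← h6]
        exact orderOf_pow_dvd 1344
    have h6 : orderOf (y ^ i) ∣ 1344 := by
      rw [orderOf_dvd_iff_pow_eq_one, ← h2, h4]
    have h7 : orderOf (y ^ i) ∣ 5 := by rw [← h.ord_y]; exact orderOf_pow_dvd i
    have h8 : y ^ i = 1 := by
      rw [← orderOf_eq_one_iff]
      exact Nat.dvd_one.1 ((by norm_num : Nat.gcd 1344 5 = 1) ▸ Nat.dvd_gcd h6 h7)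
    rw [h8, one_mul]
    exact hw

theorem n_mem (h : Loc y n H) (hP : (P : Subgroup G) = zpowers y) : n ∈ normalizer ((P : Subgroup G) : Set G) := by
  rw [hP]
  have h1 : ∀ z ∈ zpowers y, n * z * n⁻¹ ∈ zpowers y := by
    rintro _ ⟨i, rfl⟩
    have h2 : n * y ^ i * n⁻¹ = (n * y * n⁻¹) ^ i := by rw [conj_zpow]
    simp only
    rw [h2, h.n_y]
    exact zpow_mem (pow_mem (mem_zpowers y) 2) i
  have hfin : Finite (zpowers y) := inferInstance
  rw [Subgroup.mem_normalizer_iff]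
  intro z
  refine ⟨h1 z, fun hz => ?_⟩
  -- surjectivity of conjugation on the finite subgroup
  let f : zpowers y → zpowers y := fun z => ⟨n * z * n⁻¹, h1 z z.2⟩
  have hf : Function.Injective f := by
    intro a b hab
    have := congrArg Subtype.val hab
    simp only [f] at this
    apply Subtype.ext
    exact mul_left_cancel (mul_right_cancel this)
  obtain ⟨w, hw⟩ := (Finite.injective_iff_surjective.1 hf) ⟨n * z * n⁻¹, hz⟩
  have h3 := congrArg Subtype.val hw
  simp only [f] at h3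
  have h4 : (w : G) = z := mul_left_cancel (mul_right_cancel h3)
  rw [← h4]
  exact w.2

theorem conj_npow (h : Loc y n H) (j : ℕ) : n ^ j * y * (n ^ j)⁻¹ = y ^ (2 ^ j) := by
  induction j with
  | zero => simp
  | succ j ih =>
    have h1 : n ^ (j + 1) * y * (n ^ (j + 1))⁻¹ = n * (n ^ j * y * (n ^ j)⁻¹) * n⁻¹ := by
      rw [pow_succ']; group
    have h2 : n * y ^ (2 ^ j) * n⁻¹ = (n * y * n⁻¹) ^ (2 ^ j) := by rw [conj_pow]
    rw [h1, ih, h2, h.n_y, ← pow_mul]
    congr 1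
    ring

theorem form_norm (h : Loc y n H) (hP : (P : Subgroup G) = zpowers y) {m : G}
    (hm : m ∈ normalizer ((P : Subgroup G) : Set G)) : ∃ j < 4, ∃ c ∈ centralizer ((P : Subgroup G) : Set G),
      m = n ^ j * c := by
  have h1 : m * y * m⁻¹ ∈ zpowers y := by
    rw [← hP]
    exact (mem_normalizer_iff.1 hm y).1 (by rw [hP]; exact mem_zpowers y)
  rw [← mem_powers_iff_mem_zpowers] at h1
  obtain ⟨k, hk⟩ := h1
  simp only at hk
  have hk5 : y ^ (k % 5) = m * y * m⁻¹ := by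
    rw [← hk]
    conv_lhs => rw [← h.ord_y]
    exact pow_mod_orderOf y k
  have hk0 : k % 5 ≠ 0 := by
    intro h0
    rw [h0, pow_zero] at hk5
    have h2 : y = 1 := by
      exact conj_eq_one_iff.1 hk5.symm
    have h3 := h.ord_y
    rw [h2, orderOf_one] at h3
    omega
  have h2 : ∃ j < 4, y ^ (2 ^ j) = y ^ (k % 5) := by
    have hlt : k % 5 < 5 := Nat.mod_lt _ (by norm_num)
    have h8 : y ^ 8 = y ^ 3 := by
      have h5 : y ^ 5 = 1 := by rw [← h.ord_y]; exact pow_orderOf_eq_one y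
      calc y ^ 8 = y ^ 5 * y ^ 3 := by rw [← pow_add]
        _ = y ^ 3 := by rw [h5, one_mul]
    generalize k % 5 = r at hk0 hlt
    interval_cases r
    · exact absurd rfl hk0
    · exact ⟨0, by norm_num, rfl⟩
    · exact ⟨1, by norm_num, rfl⟩
    · exact ⟨3, by norm_num, h8⟩
    · exact ⟨2, by norm_num, rfl⟩
  obtain ⟨j, hj, hj2⟩ := h2
  refine ⟨j, hj, (n ^ j)⁻¹ * m, ?_, by group⟩
  rw [mem_centP hP]
  have h3 : n ^ j * y * (n ^ j)⁻¹ = m * y * m⁻¹ := by rw [conj_npow h, hj2, hk5]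
  have h4 : y = (n ^ j)⁻¹ * (m * y * m⁻¹) * n ^ j := by rw [← h3]; group
  calc y * ((n ^ j)⁻¹ * m) = ((n ^ j)⁻¹ * (m * y * m⁻¹) * n ^ j) * ((n ^ j)⁻¹ * m) := by rw [← h4]
    _ = (n ^ j)⁻¹ * m * y := by group

end grp

/-! ### characters -/

section chr

variable [Finite G] {P : Sylow 5 G} {th : Fin 11 → IrrCharacter H}

theorem tw_n (h : Loc y n H) (hP : (P : Subgroup G) = zpowers y) (hA : ActH H n th) (i : Fin 11) :
    tw (th i : H → ℂ) n = (th (pm i) : H → ℂ) := by
  funext z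
  rw [tw_apply (isComp h hP) _ (n_mem h hP)]
  exact hA.act i z

theorem tw_npow (h : Loc y n H) (hP : (P : Subgroup G) = zpowers y) (hA : ActH H n th) (i : Fin 11) (j : ℕ) :
    tw (th i : H → ℂ) (n ^ j) = (th (pm^[j] i) : H → ℂ) := by
  induction j generalizing i with
  | zero => rw [pow_zero, tw_one, Function.iterate_zero_apply]
  | succ j ih =>
    rw [pow_succ', tw_mul (isComp h hP) _ (n_mem h hP) (pow_mem (n_mem h hP) j), tw_n h hP hA, ih,
      Function.iterate_succ_apply]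

theorem tw_norm (h : Loc y n H) (hP : (P : Subgroup G) = zpowers y) (hA : ActH H n th) (i : Fin 11) {m : G}
    (hm : m ∈ normalizer ((P : Subgroup G) : Set G)) :
    tw (th i : H → ℂ) m = (th i : H → ℂ) ∨ tw (th i : H → ℂ) m = (th (pm i) : H → ℂ) := by
  obtain ⟨j, hj, c, hc, rfl⟩ := form_norm h hP hm
  have hK := isComp h hP
  rw [tw_mul hK _ (pow_mem (n_mem h hP) j) (centralizer_le_normalizer _ hc), tw_npow h hP hA,
    tw_centralizer hK (card_P h hP) (isIrr_isClassFunction (th _).2) hc]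
  interval_cases j
  · left; rfl
  · right; rfl
  · left
    have : pm^[2] i = i := pm_pm i
    rw [this]
  · right
    have : pm^[3] i = pm i := by
      show pm (pm (pm i)) = pm i
      rw [pm_pm]
    rw [this]

theorem tw_cent (h : Loc y n H) (hP : (P : Subgroup G) = zpowers y) (i : Fin 11) {c : G} (hc : c * y * c⁻¹ = y) :
    tw (th i : H → ℂ) c = (th i : H → ℂ) :=
  tw_centralizer (isComp h hP) (card_P h hP) (isIrr_isClassFunction (th _).2) ((mem_centP hP).2 (by
    conv_lhs => rw [← hc]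
    group))

open scoped Classical in
theorem orb_eq (h : Loc y n H) (hP : (P : Subgroup G) = zpowers y) (hA : ActH H n th) (i : Fin 11) :
    orb P H (th i : H → ℂ) = {th i, th (pm i)} := by
  ext θ
  rw [mem_orb, Finset.mem_insert, Finset.mem_singleton]
  constructor
  · rintro ⟨m, hm, h1⟩
    rcases tw_norm h hP hA i hm with h2 | h2
    · left; exact Subtype.ext (h1.symm.trans h2)
    · right; exact Subtype.ext (h1.symm.trans h2)
  · rintro (rfl | rfl)
    · exact ⟨1, one_mem _, tw_one _⟩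
    · exact ⟨n, n_mem h hP, tw_n h hP hA i⟩

theorem card_mulAut (h : Loc y n H) (hP : (P : Subgroup G) = zpowers y) : Nat.card (MulAut P) = 4 := by
  have h1 : IsCyclic P := isCyclic_of_prime_card (card_P h hP)
  rw [Nat.card_congr (IsCyclic.mulAutMulEquiv P).toEquiv, card_P h hP, Nat.card_eq_fintype_card,
    ZMod.card_units_eq_totient]
  rfl

theorem stab_zero (h : Loc y n H) (hP : (P : Subgroup G) = zpowers y) (hA : ActH H n th) {i : Fin 11} (hi : pm i = i) :
    Nat.card (stabAct (isComp h hP) (th i : H → ℂ)) = 4 := by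
  have hfin : Finite (MulAut P) := by
    apply Nat.finite_of_card_ne_zero
    rw [card_mulAut h hP]
    norm_num
  set r : MulAut P := cP (n_mem h hP) with hr
  have hrm : r ∈ stabAct (isComp h hP) (th i : H → ℂ) :=
    ⟨n, n_mem h hP, fun x => coe_cP _ x, by rw [tw_n h hP hA, hi]⟩
  have hr4 : r ^ 4 = 1 := by rw [← card_mulAut h hP]; exact pow_card_eq_one'
  have hr2 : r ^ 2 ≠ 1 := by
    intro h2
    have h3 := congrArg Subtype.val (DFunLike.congr_fun h2 ⟨y, by rw [hP]; exact mem_zpowers y⟩)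
    rw [pow_two, MulAut.mul_apply, hr, coe_cP, coe_cP] at h3
    have h4 : n ^ 2 * y * (n ^ 2)⁻¹ = y := by
      rw [pow_two]
      calc n * n * y * (n * n)⁻¹ = n * (n * y * n⁻¹) * n⁻¹ := by group
        _ = y := h3
    rw [conj_npow h] at h4
    have h5 : y ^ 3 = 1 := by
      have h6 : y ^ 3 * y = y := by rw [← pow_succ]; exact h4
      exact mul_eq_right.1 h6
    have h7 := orderOf_dvd_iff_pow_eq_one.2 h5
    rw [h.ord_y] at h7
    revert h7
    norm_num
  have ho : orderOf r = 4 := by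
    have := orderOf_eq_prime_pow (p := 2) (n := 1) (x := r) (by rw [pow_one]; exact hr2) hr4
    simpa using this
  have h1 : 4 ∣ Nat.card (stabAct (isComp h hP) (th i : H → ℂ)) := by
    rw [← ho, ← Subgroup.orderOf_mk r hrm]
    exact orderOf_dvd_natCard _
  have h2 := Subgroup.card_subgroup_dvd_card (stabAct (isComp h hP) (th i : H → ℂ))
  rw [card_mulAut h hP] at h2
  exact Nat.dvd_antisymm h2 h1

theorem stab_two (h : Loc y n H) (hP : (P : Subgroup G) = zpowers y) (hA : ActH H n th) (hb : Function.Injective th)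
    {i : Fin 11} (hi : pm i ≠ i) : Nat.card (stabAct (isComp h hP) (th i : H → ℂ)) = 2 := by
  classical
  have h1 := card_stabAct_mul_card_orb (isComp h hP) (card_P h hP) (th i).2
  have h0 := card_stabAct_mul_card_orb (isComp h hP) (card_P h hP) (th 0).2
  rw [stab_zero h hP hA (i := 0) (by decide), orb_eq h hP hA] at h0
  rw [← h0, orb_eq h hP hA] at h1
  have h2 : ({th 0, th (pm 0)} : Finset (IrrCharacter H)).card = 1 := by
    have : pm 0 = 0 := by decide
    rw [this]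
    simp
  have h3 : ({th i, th (pm i)} : Finset (IrrCharacter H)).card = 2 :=
    Finset.card_pair fun h4 => hi (hb h4).symm
  have h1' : Nat.card (stabAct (isComp h hP) (th i : H → ℂ)) * ({th i, th (pm i)} : Finset (IrrCharacter H)).card =
      4 * ({th 0, th (pm 0)} : Finset (IrrCharacter H)).card := by
    convert h1
  rw [h2, h3] at h1'
  omega

/-- the column -/
noncomputable def T (y : G) (th : Fin 11 → IrrCharacter H) (b : Fin 9) (χ : IrrCharacter G) : ℂ :=
  ∑ i ∈ grp b, part (th i : H → ℂ) (χ : G → ℂ) y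

theorem part_pm (h : Loc y n H) (hP : (P : Subgroup G) = zpowers y) (hA : ActH H n th) (i : Fin 11)
    (χ : IrrCharacter G) (j : ℕ) :
    part (th i : H → ℂ) (χ : G → ℂ) (y ^ (2 ^ j)) = part (th (pm^[j] i) : H → ℂ) (χ : G → ℂ) y := by
  rw [← conj_npow h, part_conj (isComp h hP) _ (isIrr_isClassFunction χ.2) (pow_mem (n_mem h hP) j),
    tw_npow h hP hA]

theorem sum_part4 (h : Loc y n H) (hP : (P : Subgroup G) = zpowers y) (hA : ActH H n th) (i : Fin 11)
    (χ : IrrCharacter G) : ∑ j ∈ Finset.range 4, part (th i : H → ℂ) (χ : G → ℂ) (y ^ (j + 1)) =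
      2 * (part (th i : H → ℂ) (χ : G → ℂ) y + part (th (pm i) : H → ℂ) (χ : G → ℂ) y) := by
  have h5 : y ^ 5 = 1 := by rw [← h.ord_y]; exact pow_orderOf_eq_one y
  have h8 : y ^ 8 = y ^ 3 := by
    calc y ^ 8 = y ^ 5 * y ^ 3 := by rw [← pow_add]
      _ = y ^ 3 := by rw [h5, one_mul]
  have e1 := part_pm h hP hA i χ 0
  have e2 := part_pm h hP hA i χ 1
  have e3 := part_pm h hP hA i χ 2
  have e4 := part_pm h hP hA i χ 3
  have i2 : pm^[2] i = i := pm_pm i
  have i3 : pm^[3] i = pm i := by show pm (pm (pm i)) = pm i; rw [pm_pm]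
  rw [i2] at e3
  rw [i3] at e4
  norm_num at e1 e2 e3 e4
  rw [h8] at e4
  simp only [Finset.sum_range_succ, Finset.sum_range_zero]
  norm_num
  rw [e2, e3, e4]
  ring

/-- the elements of `P` -/
def el (hP : (P : Subgroup G) = zpowers y) (j : ℕ) : P := ⟨y ^ (j + 1), by
  have h1 : y ^ (j + 1) ∈ (P : Subgroup G) := by rw [hP]; exact pow_mem (mem_zpowers y) _
  exact h1⟩

theorem coe_el (hP : (P : Subgroup G) = zpowers y) (j : ℕ) : ((el hP j : P) : G) = y ^ (j + 1) := rfl

theorem el_pow (hP : (P : Subgroup G) = zpowers y) (j : ℕ) : el hP j = (el hP 0) ^ (j + 1) := by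
  apply Subtype.ext
  rw [SubmonoidClass.coe_pow, coe_el, coe_el, zero_add, pow_one]

theorem el_ne (h : Loc y n H) (hP : (P : Subgroup G) = zpowers y) {j : ℕ} (hj : j < 4) : el hP j ≠ 1 := by
  intro h1
  have h2 : y ^ (j + 1) = 1 := congrArg Subtype.val h1
  have h3 := orderOf_dvd_iff_pow_eq_one.2 h2
  rw [h.ord_y] at h3
  have := Nat.le_of_dvd (by omega) h3
  omega

theorem sum_lin (h : Loc y n H) (hP : (P : Subgroup G) = zpowers y) {l : P →* ℂˣ} (hl : l ≠ 1) :
    ∑ j ∈ Finset.range 4, ((l (el hP j) : ℂˣ) : ℂ) = -1 := by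
  have h5 : y ^ 5 = 1 := by rw [← h.ord_y]; exact pow_orderOf_eq_one y
  have hw5 : (el hP 0) ^ 5 = 1 := by
    apply Subtype.ext
    rw [SubmonoidClass.coe_pow, coe_el, zero_add, pow_one, h5]
    rfl
  have hw1 : el hP 0 ≠ 1 := el_ne h hP (by norm_num)
  have hl1 : l (el hP 0) ≠ 1 := by
    intro h1
    apply hw1
    apply injective_of_ne_one (by norm_num) (card_P h hP) hl
    rw [h1, map_one]
  set z : ℂ := ((l (el hP 0) : ℂˣ) : ℂ) with hz
  have hz1 : z ≠ 1 := by
    intro h1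
    apply hl1
    exact Units.ext (by rw [Units.val_one]; exact h1)
  have hz5 : z ^ 5 = 1 := by
    rw [hz, ← Units.val_pow_eq_pow_val, ← map_pow, hw5, map_one, Units.val_one]
  have h1 : ∀ j : ℕ, ((l (el hP j) : ℂˣ) : ℂ) = z ^ (j + 1) := by
    intro j
    rw [hz, ← Units.val_pow_eq_pow_val, ← map_pow, el_pow]
  rw [Finset.sum_congr rfl fun j _ => h1 j]
  have h2 : (z - 1) * (z ^ 4 + z ^ 3 + z ^ 2 + z + 1) = 0 := by
    have : (z - 1) * (z ^ 4 + z ^ 3 + z ^ 2 + z + 1) = z ^ 5 - 1 := by ring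
    rw [this, hz5, sub_self]
  have h3 : z ^ 4 + z ^ 3 + z ^ 2 + z + 1 = 0 := (mul_eq_zero.1 h2).resolve_left (sub_ne_zero.2 hz1)
  simp only [Finset.sum_range_succ, Finset.sum_range_zero]
  linear_combination h3

/-- the structure for one `i` -/
theorem cls (h : Loc y n H) (hP : (P : Subgroup G) = zpowers y) (hA : ActH H n th) (i : Fin 11) {e t : ℕ}
    (he : Nat.card (stabAct (isComp h hP) (th i : H → ℂ)) = e) (ht : e * t = 4) :
    ∃ NE X : Finset (IrrCharacter G), (∀ χ, χ ∈ Over P (th i : H → ℂ) ↔ χ ∈ NE ∨ χ ∈ X) ∧ Disjoint NE X ∧ X.card = t ∧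
      (∀ χ ∈ NE, ∃ ε : ℤ, (ε = 1 ∨ ε = -1) ∧
        part (th i : H → ℂ) (χ : G → ℂ) y + part (th (pm i) : H → ℂ) (χ : G → ℂ) y = 2 * ε) ∧
      (∀ χ ∈ X, ∃ ε : ℤ, (ε = 1 ∨ ε = -1) ∧
        2 * (part (th i : H → ℂ) (χ : G → ℂ) y + part (th (pm i) : H → ℂ) (χ : G → ℂ) y) = e * ε) := by
  obtain ⟨NE, X, ε, d, S, h1, h2, h3, h4, h5, h6, h7, h8, -⟩ :=
    theoremC (isComp h hP) (card_P h hP) (th i).2 he ht
  refine ⟨NE, X, h1, h2, h4, fun χ hχ => ⟨ε χ, h5 χ hχ, ?_⟩, fun χ hχ => ⟨-d, by omega, ?_⟩⟩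
  · have e1 := sum_part4 h hP hA i χ
    have e2 : ∀ j ∈ Finset.range 4, part (th i : H → ℂ) (χ : G → ℂ) (y ^ (j + 1)) = ε χ := fun j hj =>
      h7 χ hχ (el hP j) (el_ne h hP (Finset.mem_range.1 hj))
    rw [Finset.sum_congr rfl e2, Finset.sum_const, Finset.card_range] at e1
    have e3 : (4 : ℕ) • (ε χ : ℂ) = 4 * ε χ := by simp
    rw [e3] at e1
    linear_combination (-1/2 : ℂ) * e1
  · obtain ⟨e1, e2, -, e3⟩ := h8 χ hχ
    rw [← sum_part4 h hP hA i χ]
    have e4 : ∀ j ∈ Finset.range 4, part (th i : H → ℂ) (χ : G → ℂ) (y ^ (j + 1)) =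
        d * ∑ l ∈ S χ, ((l (el hP j) : ℂˣ) : ℂ) := fun j hj =>
      e3 (el hP j) (el_ne h hP (Finset.mem_range.1 hj))
    have e5 : ∑ l ∈ S χ, ∑ j ∈ Finset.range 4, ((l (el hP j) : ℂˣ) : ℂ) = ∑ l ∈ S χ, (-1 : ℂ) :=
      Finset.sum_congr rfl fun l hl => sum_lin h hP (l := l) (fun h0 => e2 (h0 ▸ hl))
    rw [Finset.sum_congr rfl e4, ← Finset.mul_sum, Finset.sum_comm, e5, Finset.sum_const, e1]
    rw [nsmul_eq_mul]
    push_cast
    ring

theorem zero_of_notMem (h : Loc y n H) (hP : (P : Subgroup G) = zpowers y) (hA : ActH H n th) (i : Fin 11)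
    {χ : IrrCharacter G} (hχ : χ ∉ Over P (th i : H → ℂ)) :
    part (th i : H → ℂ) (χ : G → ℂ) y = 0 ∧ part (th (pm i) : H → ℂ) (χ : G → ℂ) y = 0 := by
  have h1 := part_eq_zero hχ (el_ne h hP (j := 0) (by norm_num))
  have h2 := part_eq_zero hχ (el_ne h hP (j := 1) (by norm_num))
  rw [coe_el] at h1 h2
  refine ⟨by simpa using h1, ?_⟩
  have h3 := part_pm h hP hA i χ 1
  rw [Function.iterate_one] at h3
  rw [← h3]
  exact h2

theorem T_small {b : Fin 9} (hb : b.val < 7) (χ : IrrCharacter G) :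
    pm (rp b) = rp b ∧ T y th b χ = part (th (rp b) : H → ℂ) (χ : G → ℂ) y := by
  have h1 : pm (rp b) = rp b ∧ grp b = {rp b} := by revert b; decide
  refine ⟨h1.1, ?_⟩
  unfold T
  rw [h1.2, Finset.sum_singleton]

theorem T_big {b : Fin 9} (hb : 7 ≤ b.val) (χ : IrrCharacter G) :
    pm (rp b) ≠ rp b ∧ T y th b χ = part (th (rp b) : H → ℂ) (χ : G → ℂ) y +
      part (th (pm (rp b)) : H → ℂ) (χ : G → ℂ) y := by
  have h1 : pm (rp b) ≠ rp b ∧ grp b = {rp b, pm (rp b)} := by revert b; decide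
  refine ⟨h1.1, ?_⟩
  unfold T
  rw [h1.2, Finset.sum_pair h1.1.symm]

theorem T_zero (h : Loc y n H) (hP : (P : Subgroup G) = zpowers y) (hA : ActH H n th) (b : Fin 9)
    {χ : IrrCharacter G} (hχ : χ ∉ Over P (th (rp b) : H → ℂ)) : T y th b χ = 0 := by
  obtain ⟨h1, h2⟩ := zero_of_notMem h hP hA (rp b) hχ
  by_cases hb : b.val < 7
  · rw [(T_small hb χ).2, h1]
  · rw [(T_big (by omega) χ).2, h1, h2, add_zero]

open scoped Classical in
/-- **one column** -/
theorem col [Fintype (IrrCharacter G)] (h : Loc y n H) (hP : (P : Subgroup G) = zpowers y) (hA : ActH H n th)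
    (hi : Function.Injective th) (b : Fin 9) : ∃ k : IrrCharacter G → ℤ, (∀ χ, T y th b χ = k χ) ∧
      (∀ χ, χ ∉ Over P (th (rp b) : H → ℂ) → k χ = 0) ∧
      (∀ χ, χ ∈ Over P (th (rp b) : H → ℂ) → (b.val < 7 ∧ (k χ = 1 ∨ k χ = -1)) ∨
        (7 ≤ b.val ∧ (k χ = 2 ∨ k χ = -2 ∨ k χ = 1 ∨ k χ = -1))) ∧
      (7 ≤ b.val → (Finset.univ.filter fun χ => k χ = 1 ∨ k χ = -1).card = 2) := by
  by_cases hb : b.val < 7
  · obtain ⟨NE, X, h1, h2, h3, h4, h5⟩ := cls h hP hA (rp b) (stab_zero h hP hA (T_small (y := y) (th := th) hb 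
      ⟨fun _ => 1, isIrr_one⟩).1) (t := 1) (by norm_num)
    have key : ∀ χ, ∃ k : ℤ, T y th b χ = k ∧ (χ ∉ Over P (th (rp b) : H → ℂ) → k = 0) ∧
        (χ ∈ Over P (th (rp b) : H → ℂ) → k = 1 ∨ k = -1) := by
      intro χ
      by_cases hχ : χ ∈ Over P (th (rp b) : H → ℂ)
      · rcases (h1 χ).1 hχ with h6 | h6
        · obtain ⟨ε, hε, h7⟩ := h4 χ h6
          rw [(T_small (y := y) (th := th) hb χ).1] at h7
          refine ⟨ε, ?_, fun h8 => absurd hχ h8, fun _ => hε⟩
          rw [(T_small hb χ).2]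
          linear_combination (1/2 : ℂ) * h7
        · obtain ⟨ε, hε, h7⟩ := h5 χ h6
          rw [(T_small (y := y) (th := th) hb χ).1] at h7
          refine ⟨ε, ?_, fun h8 => absurd hχ h8, fun _ => hε⟩
          rw [(T_small hb χ).2]
          push_cast at h7
          linear_combination (1/4 : ℂ) * h7
      · exact ⟨0, by rw [T_zero h hP hA b hχ, Int.cast_zero], fun _ => rfl, fun h8 => absurd h8 hχ⟩
    choose k hk using key
    exact ⟨k, fun χ => (hk χ).1, fun χ => (hk χ).2.1, fun χ hχ => Or.inl ⟨hb, (hk χ).2.2 hχ⟩, fun h7 => by omega⟩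
  · have hb' : 7 ≤ b.val := by omega
    obtain ⟨NE, X, h1, h2, h3, h4, h5⟩ := cls h hP hA (rp b) (stab_two h hP hA hi (T_big (y := y) (th := th) hb'
      ⟨fun _ => 1, isIrr_one⟩).1) (t := 2) (by norm_num)
    have key : ∀ χ, ∃ k : ℤ, T y th b χ = k ∧ (χ ∉ Over P (th (rp b) : H → ℂ) → k = 0) ∧
        (χ ∈ NE → k = 2 ∨ k = -2) ∧ (χ ∈ X → k = 1 ∨ k = -1) := by
      intro χ
      by_cases hχ : χ ∈ Over P (th (rp b) : H → ℂ)
      · rcases (h1 χ).1 hχ with h6 | h6
        · obtain ⟨ε, hε, h7⟩ := h4 χ h6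
          refine ⟨2 * ε, ?_, fun h8 => absurd hχ h8, fun _ => by omega, fun h8 => absurd h8 (Finset.disjoint_left.1 h2 h6)⟩
          rw [(T_big hb' χ).2, h7]
          push_cast
          ring
        · obtain ⟨ε, hε, h7⟩ := h5 χ h6
          refine ⟨ε, ?_, fun h8 => absurd hχ h8, fun h8 => absurd h6 (Finset.disjoint_left.1 h2 h8), fun _ => hε⟩
          rw [(T_big hb' χ).2]
          push_cast at h7
          linear_combination (1/2 : ℂ) * h7
      · refine ⟨0, by rw [T_zero h hP hA b hχ, Int.cast_zero], fun _ => rfl, fun h8 => ?_, fun h8 => ?_⟩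
        · exact absurd ((h1 χ).2 (Or.inl h8)) hχ
        · exact absurd ((h1 χ).2 (Or.inr h8)) hχ
    choose k hk using key
    refine ⟨k, fun χ => (hk χ).1, fun χ => (hk χ).2.1, fun χ hχ => Or.inr ⟨hb', ?_⟩, fun _ => ?_⟩
    · rcases (h1 χ).1 hχ with h6 | h6
      · rcases (hk χ).2.2.1 h6 with h7 | h7
        · exact Or.inl h7
        · exact Or.inr (Or.inl h7)
      · exact Or.inr (Or.inr ((hk χ).2.2.2 h6))
    · rw [← h3]
      congr 1
      ext χ
      rw [Finset.mem_filter]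
      constructor
      · rintro ⟨-, h6⟩
        by_cases hχ : χ ∈ Over P (th (rp b) : H → ℂ)
        · rcases (h1 χ).1 hχ with h8 | h8
          · have := (hk χ).2.2.1 h8
            omega
          · exact h8
        · have := (hk χ).2.1 hχ
          omega
      · intro h6
        exact ⟨Finset.mem_univ _, (hk χ).2.2.2 h6⟩

/-- different groups have disjoint supports -/
theorem disj (h : Loc y n H) (hP : (P : Subgroup G) = zpowers y) (hA : ActH H n th)
    (hi : Function.Injective th) {b b' : Fin 9} (hb : b ≠ b') {χ : IrrCharacter G}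
    (h1 : χ ∈ Over P (th (rp b) : H → ℂ)) : χ ∉ Over P (th (rp b') : H → ℂ) := by
  have hr0 : ∀ b b' : Fin 9, b ≠ b' → rp b ≠ rp b' ∧ pm (rp b) ≠ rp b' := by decide
  have hr := hr0 b b' hb
  intro h2
  refine Set.disjoint_left.1 (disjoint_Over (isComp h hP) (card_P h hP) (th (rp b)).2 (th (rp b')).2 ?_) h1 h2
  intro m hm h3
  rcases tw_norm h hP hA (rp b) hm with h4 | h4
  · exact hr.1 (hi (Subtype.ext (h4.symm.trans h3)))
  · exact hr.2 (hi (Subtype.ext (h4.symm.trans h3)))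

theorem regroup_aux : ∀ i : Fin 11, (∑ b : Fin 9, if i ∈ grp b then t5 b else 0) = (t11 i : ℤ) := by decide

theorem regroup (f : Fin 11 → ℂ) : ∑ i, f i * (t11 i : ℂ) = ∑ b, (t5 b : ℂ) * ∑ i ∈ grp b, f i := by
  have h1 : ∀ b : Fin 9, (t5 b : ℂ) * ∑ i ∈ grp b, f i = ∑ i : Fin 11, f i * ((if i ∈ grp b then t5 b else 0 : ℤ) : ℂ) := by
    intro b
    rw [Finset.mul_sum, ← Finset.sum_subset (Finset.subset_univ (grp b))]
    · refine Finset.sum_congr rfl fun i hi => ?_
      rw [if_pos hi, mul_comm]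
    · intro i _ hi
      rw [if_neg hi, Int.cast_zero, mul_zero]
  rw [Finset.sum_congr rfl fun b _ => h1 b, Finset.sum_comm]
  refine Finset.sum_congr rfl fun i _ => ?_
  rw [← Finset.mul_sum]
  congr 1
  have h2 := congrArg (Int.cast : ℤ → ℂ) (regroup_aux i)
  rw [Int.cast_sum] at h2
  rw [h2]
  simp

theorem apply_y (h : Loc y n H) (hI : IrrH H th) (χ : IrrCharacter G) :
    (χ : G → ℂ) y = ∑ b, (t5 b : ℂ) * T y th b χ := by
  classical
  have : Finite (IrrCharacter H) := finite_irr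
  have := Fintype.ofFinite (IrrCharacter H)
  have h1 := sum_part (K := H) (isIrr_isClassFunction χ.2) (x := y) (fun z hz => h.comm z hz) 1
  rw [Subgroup.coe_one, mul_one] at h1
  rw [h1, ← Equiv.sum_comp (Equiv.ofBijective th hI.bij)]
  have h2 : ∀ i : Fin 11, (Equiv.ofBijective th hI.bij i : H → ℂ) 1 = (t11 i : ℂ) := by
    intro i
    show (th i : H → ℂ) 1 = _
    rw [Blocks.Basic.irr_one_eq_charDegree (th i).2, hI.deg i]
  simp only [h2]
  exact regroup fun i => part (th i : H → ℂ) (χ : G → ℂ) y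

/-- the congruence of the degree -/
theorem cong {x : G} (hx : orderOf x = 5) (χ : IrrCharacter G) {z : ℤ}
    (hz : (χ : G → ℂ) x = z) : (5 : ℤ) ∣ dg χ - z := by
  obtain ⟨M, hM⟩ := Blocks.ExistsModular.exists_isPModular (p := 5) (by norm_num)
  have h2 := Cfsg.Agent.CharactersDeep.ModCongr.memLocalIdeal_character_sub hM χ.2 x x
    ⟨1, mul_one x, Commute.one_right x, ⟨1, by rw [hx, pow_one]⟩, by
      rw [orderOf_one]; norm_num⟩
  rw [inv_mul_cancel, Blocks.Basic.irr_one_eq_charDegree χ.2, hz] at h2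
  have h4 : (z : ℂ) - ((charDegree (χ : G → ℂ) : ℕ) : ℂ) = ((z - (charDegree (χ : G → ℂ) : ℤ) : ℤ) : ℂ) := by
    push_cast; ring
  rw [h4] at h2
  have h5 := (Blocks.Local.memLocalIdeal_intCast_iff hM _).1 h2
  have h6 : (5 : ℤ) ∣ z - (charDegree (χ : G → ℂ) : ℤ) := by exact_mod_cast h5
  have h7 := (Int.dvd_neg).2 h6
  rw [neg_sub] at h7
  exact h7

/-- the products of the columns -/
theorem gramC [Fintype (IrrCharacter G)] (h : Loc y n H) (hP : (P : Subgroup G) = zpowers y)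
    (hi : Function.Injective th) (a b : Fin 9) : ∑ χ : IrrCharacter G, T y th a χ * conj (T y th b χ) =
      if a = b then (if a.val < 7 then 5 else 10) else 0 := by
  classical
  have := Fintype.ofFinite G
  have hK := isComp h hP
  have hc := card_P h hP
  have hy1 : y ≠ 1 := by
    intro h1
    have h3 := h.ord_y
    rw [h1, orderOf_one] at h3
    omega
  have hyP : y ∈ P := by
    have h1 : y ∈ (P : Subgroup G) := by rw [hP]; exact mem_zpowers y
    exact h1
  have hH0 : (Nat.card H : ℂ) ≠ 0 := by rw [h.card_H]; norm_num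
  have key : ∀ i j : Fin 11, ∑ χ : IrrCharacter G, part (th i : H → ℂ) (χ : G → ℂ) y *
      conj (part (th j : H → ℂ) (χ : G → ℂ) y) = if i = j then 5 else 0 := by
    intro i j
    rw [sum_part_mul_conj hK hc (th i).2 (th j).2 hyP hy1 hyP hy1]
    by_cases hij : i = j
    · subst hij
      rw [if_pos rfl]
      have h1 := sum_fix hK hc (th i).2 (u := (⟨y, hyP⟩ : P)) (v := (⟨y, hyP⟩ : P))
        (fun h2 => hy1 (congrArg Subtype.val h2)) (fun h2 => hy1 (congrArg Subtype.val h2))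
      rw [if_pos ⟨1, one_mem _, rfl⟩] at h1
      have h2 : ∑ g : G, (if g * y * g⁻¹ = y ∧ tw (th i : H → ℂ) g = th i then (1 : ℂ) else 0) = ((5 : ℕ) : ℂ) * Nat.card H := by
        rw [← h1]
      rw [h2, mul_comm ((5 : ℕ) : ℂ), ← mul_assoc, inv_mul_cancel₀ hH0]
      norm_num
    · rw [if_neg hij, Finset.sum_eq_zero, mul_zero]
      intro g _
      rw [if_neg]
      rintro ⟨h1, h2⟩
      rw [tw_cent h hP j h1] at h2
      exact hij (hi (Subtype.ext h2)).symm
  have h1 : ∀ χ : IrrCharacter G, T y th a χ * conj (T y th b χ) = ∑ i ∈ grp a, ∑ j ∈ grp b,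
      part (th i : H → ℂ) (χ : G → ℂ) y * conj (part (th j : H → ℂ) (χ : G → ℂ) y) := by
    intro χ
    unfold T
    rw [map_sum, Finset.sum_mul_sum]
  rw [Finset.sum_congr rfl fun χ _ => h1 χ, Finset.sum_comm]
  have h2 : ∀ i ∈ grp a, ∑ χ : IrrCharacter G, ∑ j ∈ grp b, part (th i : H → ℂ) (χ : G → ℂ) y *
      conj (part (th j : H → ℂ) (χ : G → ℂ) y) = ((∑ j ∈ grp b, if i = j then 5 else 0 : ℤ) : ℂ) := by
    intro i _
    rw [Finset.sum_comm, Int.cast_sum]
    refine Finset.sum_congr rfl fun j _ => ?_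
    rw [key i j]
    split_ifs <;> simp
  rw [Finset.sum_congr rfl h2, ← Int.cast_sum]
  have h3 : ∀ a b : Fin 9, (∑ i ∈ grp a, ∑ j ∈ grp b, if i = j then (5 : ℤ) else 0) =
      if a = b then (if a.val < 7 then 5 else 10) else 0 := by decide
  rw [h3 a b]
  split_ifs <;> simp

/-- **the columns of 5** -/
theorem cols5Abs [Fintype (IrrCharacter G)] (h : Loc y n H) (hG : ¬ 25 ∣ Nat.card G) (hI : IrrH H th) (hA : ActH H n th) :
    ∃ t, Cols5 y H th t := by
  classical
  obtain ⟨P, hP⟩ := exists_sylow h hG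
  have hi := hI.bij.1
  choose t ht using fun b => col h hP hA hi b
  have hT : ∀ b χ, T y th b χ = t b χ := fun b χ => (ht b).1 χ
  have hc : ∀ χ, (5 : ℤ) ∣ dg χ - ∑ b, t5 b * t b χ := by
    intro χ
    refine cong h.ord_y χ ?_
    rw [apply_y h hI χ, Int.cast_sum]
    refine Finset.sum_congr rfl fun b _ => ?_
    rw [hT]
    push_cast
    rfl
  refine ⟨t, ?_, ?_, ?_, ?_⟩
  · intro b χ
    rw [← hT]
    unfold T
    refine Finset.sum_congr rfl fun i _ => ?_
    rw [@part_eq G _ _ H (Fintype.ofFinite H), h.card_H, Finset.mul_sum]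
    refine Finset.sum_congr rfl fun z _ => ?_
    push_cast
    ring
  · intro χ
    by_cases hex : ∃ b, χ ∈ Over P (th (rp b) : H → ℂ)
    · right
      obtain ⟨b, hb⟩ := hex
      have h0 : ∀ b', b' ≠ b → t b' χ = 0 := fun b' hb' =>
        (ht b').2.1 χ (disj h hP hA hi (Ne.symm hb') hb)
      have h5 := hc χ
      rw [Finset.sum_eq_single b (fun b' _ hb' => by rw [h0 b' hb', mul_zero]) (fun hh => absurd (Finset.mem_univ b) hh)] at h5
      rcases (ht b).2.2.1 χ hb with ⟨h6, h7⟩ | ⟨h6, h7⟩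
      · refine ⟨b, t b χ, h7, h0, Or.inl ⟨h6, rfl, ?_⟩⟩
        rwa [mul_comm (t b χ)]
      · rcases h7 with h7 | h7 | h7 | h7
        · refine ⟨b, 1, Or.inl rfl, h0, Or.inr (Or.inl ⟨h6, by rw [h7]; norm_num, ?_⟩)⟩
          rw [h7] at h5
          convert h5 using 2
          ring
        · refine ⟨b, -1, Or.inr rfl, h0, Or.inr (Or.inl ⟨h6, by rw [h7]; norm_num, ?_⟩)⟩
          rw [h7] at h5
          convert h5 using 2
          ring
        · refine ⟨b, -1, Or.inr rfl, h0, Or.inr (Or.inr ⟨h6, by rw [h7]; norm_num, ?_⟩)⟩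
          rw [h7] at h5
          have h8 : dg χ - 4 * -1 * t5 b = (dg χ - t5 b * 1) + 5 * t5 b := by ring
          rw [h8]
          exact dvd_add h5 (dvd_mul_right _ _)
        · refine ⟨b, 1, Or.inl rfl, h0, Or.inr (Or.inr ⟨h6, by rw [h7], ?_⟩)⟩
          rw [h7] at h5
          have h8 : dg χ - 4 * 1 * t5 b = (dg χ - t5 b * -1) - 5 * t5 b := by ring
          rw [h8]
          exact dvd_sub h5 (dvd_mul_right _ _)
    · left
      have h0 : ∀ b, t b χ = 0 := fun b => (ht b).2.1 χ fun h1 => hex ⟨b, h1⟩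
      refine ⟨?_, h0⟩
      have h5 := hc χ
      rw [Finset.sum_eq_zero fun b _ => by rw [h0 b, mul_zero], sub_zero] at h5
      exact h5
  · intro a b
    have h1 := gramC h hP hi a b
    have h2 : ∀ χ : IrrCharacter G, T y th a χ * conj (T y th b χ) = ((t a χ * t b χ : ℤ) : ℂ) := by
      intro χ
      rw [hT, hT, ← Complex.ofReal_intCast (t b χ), Complex.conj_ofReal]
      push_cast
      rfl
    rw [Finset.sum_congr rfl fun χ _ => h2 χ, ← Int.cast_sum] at h1
    have h3 : ((if a = b then (if a.val < 7 then 5 else 10) else 0 : ℂ)) =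
        ((if a = b then (if a.val < 7 then 5 else 10) else 0 : ℤ) : ℂ) := by
      split_ifs <;> simp
    rw [h3] at h1
    exact Int.cast_injective h1
  · intro b hb
    have h1 := (ht b).2.2.2 hb
    convert h1

end chr

end Cfsg.Agent.H618.J4
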